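import Cfsg.Agent.H886.FC.Base
import Mathlib.NumberTheory.LegendreSymbol.AddCharacter
import Cfsg.Agent.H786.FC.Parts
set_option linter.all false

-- part: H710/FC/Heis
section
/-!
# S5764, extraspecial normalizers in odd prime degree (helper710): the Heisenberg pair

`Heis r ω P Z`: `P^r = Z^r = 1`, `Z P = ω P Z`, `dim V = r` an odd prime, `ω` a primitive `r`-th root of unity.
-/

set_option autoImplicit false

universe u v

namespace Cfsg.Agent.H710.FC

open Module Cfsg.Agent.H198.FC Cfsg.Agent.H886.FC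

variable {K : Type u} [Field K] {V : Type v} [AddCommGroup V] [Module K V]

/-- the Heisenberg pair -/
structure Heis (r : ℕ) (ω : K) (P Z : (R K V)ˣ) : Prop where
  hr : r.Prime
  odd : r ≠ 2
  prim : IsPrimitiveRoot ω r
  rank : finrank K V = r
  Pr : P ^ r = 1
  Zr : Z ^ r = 1
  comm : (Z : R K V) * P = ω • ((P : R K V) * Z)

namespace Heis

variable {r : ℕ} {ω : K} {P Z : (R K V)ˣ}

theorem hω (h : Heis r ω P Z) : ω ^ r = 1 := h.prim.pow_eq_one

theorem ω_ne (h : Heis r ω P Z) : ω ≠ 0 := h.prim.ne_zero h.hr.ne_zero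

theorem symm (h : Heis r ω P Z) : Heis r ω⁻¹ Z P where
  hr := h.hr
  odd := h.odd
  prim := h.prim.inv
  rank := h.rank
  Pr := h.Zr
  Zr := h.Pr
  comm := by rw [h.comm, smul_smul, inv_mul_cancel₀ h.ω_ne, one_smul]

theorem ZP (h : Heis r ω P Z) (v : V) : (Z : R K V) ((P : R K V) v) = ω • (P : R K V) ((Z : R K V) v) :=
  LinearMap.congr_fun h.comm v

theorem Z_pow (h : Heis r ω P Z) (k : ℕ) (v : V) :
    (Z : R K V) (((P : R K V) ^ k) v) = ω ^ k • ((P : R K V) ^ k) ((Z : R K V) v) := by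
  induction k generalizing v with
  | zero => simp
  | succ k ih =>
    rw [pow_succ', Module.End.mul_apply, h.ZP, ih, map_smul, smul_smul, Module.End.mul_apply, ← pow_succ']

theorem Zr' (h : Heis r ω P Z) : (Z : R K V) ^ r = 1 := by
  rw [← Units.val_pow_eq_pow_val, h.Zr, Units.val_one]

theorem Pr' (h : Heis r ω P Z) : (P : R K V) ^ r = 1 := by
  rw [← Units.val_pow_eq_pow_val, h.Pr, Units.val_one]

theorem inj_pow {P : (R K V)ˣ} (k : ℕ) {v : V} (hv : v ≠ 0) : ((P : R K V) ^ k) v ≠ 0 := by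
  intro h0
  apply hv
  have h1 : (((P ^ k)⁻¹ : (R K V)ˣ) : R K V) (((P ^ k : (R K V)ˣ) : R K V) v) = v := by
    rw [← Module.End.mul_apply, Units.inv_mul]; rfl
  rw [← h1, Units.val_pow_eq_pow_val, h0, map_zero]

/-- an eigenvector for the eigenvalue `1` -/
theorem exists_fix [Module.Finite K V] (h : Heis r ω P Z) : ∃ v : V, v ≠ 0 ∧ (Z : R K V) v = v := by
  have : NeZero r := ⟨h.hr.ne_zero⟩
  have hnt : Nontrivial V := by
    apply Module.nontrivial_of_finrank_pos (R := K)
    rw [h.rank]; exact h.hr.pos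
  have h1 : minpoly K (Z : R K V) ∣ Polynomial.X ^ r - Polynomial.C 1 := by
    apply minpoly.dvd
    rw [map_sub, map_pow, Polynomial.aeval_X, h.Zr', Polynomial.aeval_C, map_one, sub_self]
  have h2 : (minpoly K (Z : R K V)).Splits :=
    Polynomial.Splits.of_dvd (Polynomial.X_pow_sub_one_splits h.prim)
      (Polynomial.X_pow_sub_C_ne_zero h.hr.pos 1) h1
  have h3 : (minpoly K (Z : R K V)).degree ≠ 0 :=
    (minpoly.degree_pos (Algebra.IsIntegral.isIntegral _)).ne'
  obtain ⟨κ, hκ⟩ := h2.exists_eval_eq_zero h3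
  obtain ⟨v, hv⟩ := (Module.End.hasEigenvalue_of_isRoot hκ).exists_hasEigenvector
  have hv1 : (Z : R K V) v = κ • v := hv.apply_eq_smul
  have hv0 : v ≠ 0 := hv.2
  have h4 : κ ^ r = 1 := by
    have h5 : ∀ k : ℕ, ((Z : R K V) ^ k) v = κ ^ k • v := by
      intro k
      induction k with
      | zero => simp
      | succ k ih => rw [pow_succ', Module.End.mul_apply, ih, map_smul, hv1, smul_smul, pow_succ]
    have h6 := h5 r
    rw [h.Zr', Module.End.one_apply] at h6
    have h7 : (κ ^ r - 1) • v = 0 := by rw [sub_smul, one_smul, ← h6, sub_self]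
    exact sub_eq_zero.1 ((smul_eq_zero.1 h7).resolve_right hv0)
  obtain ⟨k, hk, rfl⟩ := h.prim.eq_pow_of_pow_eq_one h4
  refine ⟨((P : R K V) ^ (r - k)) v, inj_pow _ hv0, ?_⟩
  rw [h.Z_pow, hv1, map_smul, smul_smul, ← pow_add, Nat.sub_add_cancel hk.le, h.hω, one_smul]

/-- the character `i ↦ ω^i` of `Z/r` -/
noncomputable def ch (r : ℕ) (ω : K) : ZMod r → K := fun i => ω ^ i.val

theorem ch_nat (h : Heis r ω P Z) (n : ℕ) : ch r ω (n : ZMod r) = ω ^ n := by
  show ω ^ (n : ZMod r).val = ω ^ n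
  rw [ZMod.val_natCast, ← pow_eq_pow_mod n h.hω]

theorem ch_zero (h : Heis r ω P Z) : ch r ω 0 = 1 := by
  have := h.ch_nat 0
  rwa [Nat.cast_zero, pow_zero] at this

theorem ch_one (h : Heis r ω P Z) : ch r ω 1 = ω := by
  have := h.ch_nat 1
  rwa [Nat.cast_one, pow_one] at this

theorem ch_inj (h : Heis r ω P Z) : Function.Injective (ch r ω) := by
  intro i j hij
  have : NeZero r := ⟨h.hr.ne_zero⟩
  exact ZMod.val_injective r (h.prim.pow_inj (ZMod.val_lt i) (ZMod.val_lt j) hij)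

theorem ch_ne (h : Heis r ω P Z) (i : ZMod r) : ch r ω i ≠ 0 := pow_ne_zero _ h.ω_ne

theorem exists_ch (h : Heis r ω P Z) {a : K} (ha : a ^ r = 1) : ∃ i, ch r ω i = a := by
  have : NeZero r := ⟨h.hr.ne_zero⟩
  obtain ⟨k, hk, rfl⟩ := h.prim.eq_pow_of_pow_eq_one ha
  exact ⟨(k : ZMod r), h.ch_nat k⟩

/-- the eigenbasis -/
theorem exists_basis [Module.Finite K V] (h : Heis r ω P Z) : ∃ b : Basis (ZMod r) K V,
    (∀ i, (Z : R K V) (b i) = ch r ω i • b i) ∧ ∀ i, (P : R K V) (b i) = b (i + 1) := by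
  have : NeZero r := ⟨h.hr.ne_zero⟩
  have : Nonempty (ZMod r) := ⟨0⟩
  obtain ⟨v, hv0, hv⟩ := h.exists_fix
  let w : ZMod r → V := fun i => ((P : R K V) ^ i.val) v
  have hw : ∀ i, (Z : R K V) (w i) = ch r ω i • w i := fun i => by
    show (Z : R K V) (((P : R K V) ^ i.val) v) = _
    rw [h.Z_pow, hv]
    rfl
  have hli : LinearIndependent K w := by
    refine Module.End.eigenvectors_linearIndependent' (Z : R K V) (ch r ω) h.ch_inj w fun i => ?_
    exact ⟨Module.End.mem_eigenspace_iff.2 (hw i), inj_pow _ hv0⟩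
  have hcard : Fintype.card (ZMod r) = finrank K V := by rw [ZMod.card, h.rank]
  refine ⟨basisOfLinearIndependentOfCardEqFinrank hli hcard, fun i => ?_, fun i => ?_⟩
  · rw [coe_basisOfLinearIndependentOfCardEqFinrank]
    exact hw i
  · rw [coe_basisOfLinearIndependentOfCardEqFinrank]
    show (P : R K V) (((P : R K V) ^ i.val) v) = ((P : R K V) ^ (i + 1).val) v
    rw [← Module.End.mul_apply, ← pow_succ']
    congr 1
    have h1 : (i + 1).val = (i.val + 1) % r := by
      rw [← ZMod.val_natCast, Nat.cast_add, ZMod.natCast_zmod_val, Nat.cast_one]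
    rw [h1, ← pow_eq_pow_mod _ h.Pr']

/-- `det Z = 1` -/
theorem det_Z [Module.Finite K V] (h : Heis r ω P Z) : LinearMap.det (Z : R K V) = 1 := by
  have : NeZero r := ⟨h.hr.ne_zero⟩
  obtain ⟨b, hb, -⟩ := h.exists_basis
  have h1 : LinearMap.toMatrix b b (Z : R K V) = Matrix.diagonal (ch r ω) := by
    ext i j
    rw [LinearMap.toMatrix_apply, hb, map_smul, Basis.repr_self, Finsupp.smul_apply, Finsupp.single_apply,
      Matrix.diagonal_apply]
    by_cases hij : i = j
    · rw [if_pos hij.symm, if_pos hij, hij, smul_eq_mul, mul_one]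
    · rw [if_neg (Ne.symm hij), if_neg hij, smul_zero]
  rw [← LinearMap.det_toMatrix b, h1, Matrix.det_diagonal]
  show ∏ i : ZMod r, ω ^ i.val = 1
  rw [Finset.prod_pow_eq_pow_sum]
  have h2 : ∑ i : ZMod r, i.val = ∑ i ∈ Finset.range r, i := by
    refine Finset.sum_bij (fun i _ => i.val) ?_ ?_ ?_ ?_
    · intro i _; exact Finset.mem_range.2 (ZMod.val_lt i)
    · intro i _ j _ hij; exact ZMod.val_injective r hij
    · intro k hk; exact ⟨(k : ZMod r), Finset.mem_univ _, ZMod.val_cast_of_lt (Finset.mem_range.1 hk)⟩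
    · intro i _; rfl
  have h3 := Finset.sum_range_id_mul_two r
  obtain ⟨m, hm⟩ := h.hr.even_sub_one h.odd
  have h4 : ∑ i ∈ Finset.range r, i = r * m := by
    rw [hm] at h3
    have : (∑ i ∈ Finset.range r, i) * 2 = (r * m) * 2 := by rw [h3]; ring
    omega
  rw [h2, h4, pow_mul, h.hω, one_pow]

theorem det_P [Module.Finite K V] (h : Heis r ω P Z) : LinearMap.det (P : R K V) = 1 := h.symm.det_Z

/-- an element commuting with `P` and `Z` is a scalar -/
theorem scalar [Module.Finite K V] (h : Heis r ω P Z) {W : R K V} (hP : W * P = P * W) (hZ : W * Z = Z * W) :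
    ∃ c : K, W = c • (1 : R K V) := by
  have : NeZero r := ⟨h.hr.ne_zero⟩
  obtain ⟨b, hbZ, hbP⟩ := h.exists_basis
  have h1 : ∀ i, ∃ c : K, W (b i) = c • b i := by
    intro i
    refine ⟨b.repr (W (b i)) i, b.repr.injective (Finsupp.ext fun j => ?_)⟩
    rw [map_smul, Basis.repr_self, Finsupp.smul_apply, Finsupp.single_apply]
    by_cases hij : i = j
    · rw [if_pos hij, hij, smul_eq_mul, mul_one]
    · rw [if_neg hij, smul_zero]
      have h2 : (Z : R K V) (W (b i)) = ch r ω i • W (b i) := by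
        rw [← Module.End.mul_apply, ← hZ, Module.End.mul_apply, hbZ, map_smul]
      have h3 : ∀ w : V, b.repr ((Z : R K V) w) j = ch r ω j * b.repr w j := by
        intro w
        have h4 : w = ∑ k, b.repr w k • b k := (b.sum_repr w).symm
        conv_lhs => rw [h4]
        rw [map_sum, map_sum, Finsupp.finsetSum_apply, Finset.sum_eq_single j]
        · rw [map_smul, hbZ, map_smul, map_smul, Basis.repr_self, Finsupp.smul_apply, Finsupp.smul_apply,
            Finsupp.single_eq_same, smul_eq_mul, smul_eq_mul, mul_one, mul_comm]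
        · intro k _ hk
          rw [map_smul, hbZ, map_smul, map_smul, Basis.repr_self, Finsupp.smul_apply, Finsupp.smul_apply,
            Finsupp.single_eq_of_ne (Ne.symm hk), smul_zero, smul_zero]
        · intro hj; exact absurd (Finset.mem_univ j) hj
      have h5 := h3 (W (b i))
      rw [h2, map_smul, Finsupp.smul_apply, smul_eq_mul] at h5
      have h6 : (ch r ω i - ch r ω j) * b.repr (W (b i)) j = 0 := by rw [sub_mul, h5, sub_self]
      rcases mul_eq_zero.1 h6 with h7 | h7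
      · exact absurd (h.ch_inj (sub_eq_zero.1 h7)) hij
      · exact h7
  obtain ⟨c, hc⟩ := h1 0
  refine ⟨c, b.ext fun i => ?_⟩
  have h2 : ∀ n : ℕ, W (b (n : ZMod r)) = c • b (n : ZMod r) := by
    intro n
    induction n with
    | zero => rw [Nat.cast_zero]; exact hc
    | succ n ih =>
      rw [Nat.cast_succ, ← hbP, ← Module.End.mul_apply, hP, Module.End.mul_apply, ih, map_smul]
  have h3 := h2 i.val
  rw [ZMod.natCast_zmod_val] at h3
  rw [h3]
  rfl

end Heis

end Cfsg.Agent.H710.FC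
end

-- part: H710/FC/Core
section
/-!
# S5764, extraspecial normalizers in odd prime degree (helper710): the core computation
-/

set_option autoImplicit false

universe u v

namespace Cfsg.Agent.H710.FC

open Module Cfsg.Agent.H198.FC Cfsg.Agent.H886.FC

theorem det_one_of_nilp {K : Type*} [Field K] {V : Type*} [AddCommGroup V] [Module K V] [FiniteDimensional K V]
    {f : V →ₗ[K] V} (h : IsNilpotent (f - 1)) : LinearMap.det f = 1 := by
  have h1 : IsNilpotent (1 - f) := by
    rw [← neg_sub]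
    exact h.neg
  have h2 := h1.charpoly_eq_X_pow_finrank
  have h3 := LinearMap.eval_charpoly (1 - f) (1 : K)
  rw [h2, Polynomial.eval_pow, Polynomial.eval_X, one_pow] at h3
  rw [h3, map_one]
  congr 1
  abel

variable {K : Type u} [Field K] {V : Type v} [AddCommGroup V] [Module K V]

theorem cj_eq_cj {x y : (R K V)ˣ} (h : cj K V x = cj K V y) : ∃ c : K, (x : R K V) = c • (y : R K V) := by
  have h1 : cj K V (x * y⁻¹) = 1 := by rw [map_mul, map_inv, h, mul_inv_cancel]
  obtain ⟨c, hc⟩ := cj_eq_one h1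
  refine ⟨c, ?_⟩
  calc (x : R K V) = ((x * y⁻¹ : (R K V)ˣ) : R K V) * y := by
        rw [Units.val_mul, mul_assoc, Units.inv_mul, mul_one]
    _ = c • (y : R K V) := by rw [hc, smul_mul_assoc, one_mul]

/-- if `Y` and `M` commute with `X` up to the same scalar then `Y M⁻¹` commutes with `X` -/
theorem comm_div {Y M X : (R K V)ˣ} {c : K} (hc : c ≠ 0) (hY : (Y : R K V) * X = c • ((X : R K V) * Y))
    (hM : (M : R K V) * X = c • ((X : R K V) * M)) :
    ((Y * M⁻¹ : (R K V)ˣ) : R K V) * X = X * ((Y * M⁻¹ : (R K V)ˣ) : R K V) := by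
  have h1 : (X : R K V) * (M⁻¹ : (R K V)ˣ) = c • (((M⁻¹ : (R K V)ˣ) : R K V) * X) := by
    calc (X : R K V) * (M⁻¹ : (R K V)ˣ)
        = ((M⁻¹ : (R K V)ˣ) : R K V) * ((M : R K V) * X) * (M⁻¹ : (R K V)ˣ) := by
          rw [← mul_assoc, Units.inv_mul, one_mul]
      _ = c • (((M⁻¹ : (R K V)ˣ) : R K V) * X) := by
          rw [hM, mul_smul_comm, smul_mul_assoc, mul_assoc, mul_assoc, Units.mul_inv, mul_one]
  apply smul_right_injective (R K V) hc
  show c • _ = c • _
  rw [Units.val_mul, mul_assoc, ← mul_smul_comm, ← h1, ← mul_assoc, hY, smul_mul_assoc, mul_assoc]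

namespace Heis

variable {r : ℕ} {ω : K} {P Z : (R K V)ˣ}

theorem ZP_pow (h : Heis r ω P Z) (k : ℕ) :
    (Z : R K V) * (P : R K V) ^ k = ω ^ k • ((P : R K V) ^ k * Z) :=
  LinearMap.ext fun v => h.Z_pow k v

theorem Z_powP (h : Heis r ω P Z) (k : ℕ) :
    (Z : R K V) ^ k * (P : R K V) = ω ^ k • ((P : R K V) * (Z : R K V) ^ k) := by
  have h1 := h.symm.ZP_pow k
  rw [h1, smul_smul, ← mul_pow, mul_inv_cancel₀ h.ω_ne, one_pow, one_smul]

/-- the lifts -/
theorem lift [Module.Finite K V] (h : Heis r ω P Z) {Y : (R K V)ˣ} {c₁ c₂ : K}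
    (h1 : (Y : R K V) * Z = c₁ • ((Z : R K V) * Y)) (h2 : (Y : R K V) * P = c₂ • ((P : R K V) * Y)) :
    ∃ i j : ℕ, cj K V Y = cj K V (P ^ i * Z ^ j) := by
  have : NeZero r := ⟨h.hr.ne_zero⟩
  have hnt : Nontrivial V := by
    apply Module.nontrivial_of_finrank_pos (R := K)
    rw [h.rank]; exact h.hr.pos
  have key : ∀ {X : (R K V)ˣ} {c : K}, X ^ r = 1 → (Y : R K V) * X = c • ((X : R K V) * Y) → c ^ r = 1 := by
    intro X c hX hc
    have h3 : ∀ k : ℕ, (Y : R K V) * (X : R K V) ^ k = c ^ k • ((X : R K V) ^ k * Y) := by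
      intro k
      induction k with
      | zero => simp
      | succ k ih =>
        rw [pow_succ, ← mul_assoc, ih, smul_mul_assoc, mul_assoc, hc, mul_smul_comm, smul_smul, mul_assoc,
          ← pow_succ]
    have h4 := h3 r
    rw [← Units.val_pow_eq_pow_val, hX, Units.val_one, mul_one, one_mul] at h4
    have h5 : (c ^ r - 1) • (Y : R K V) = 0 := by rw [sub_smul, one_smul, ← h4, sub_self]
    have h6 : (Y : R K V) ≠ 0 := Y.ne_zero
    exact sub_eq_zero.1 ((smul_eq_zero.1 h5).resolve_right h6)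
  have k1 := key h.Zr h1
  have k2 := key h.Pr h2
  have hc1 : c₁ ≠ 0 := by rintro rfl; rw [zero_pow h.hr.ne_zero] at k1; exact zero_ne_one k1
  have hc2 : c₂ ≠ 0 := by rintro rfl; rw [zero_pow h.hr.ne_zero] at k2; exact zero_ne_one k2
  obtain ⟨i, -, hi⟩ := h.prim.eq_pow_of_pow_eq_one (ξ := c₁⁻¹) (by rw [inv_pow, k1, inv_one])
  obtain ⟨j, -, hj⟩ := h.prim.eq_pow_of_pow_eq_one k2
  have hM : ((P ^ i * Z ^ j : (R K V)ˣ) : R K V) = (P : R K V) ^ i * (Z : R K V) ^ j := by
    rw [Units.val_mul, Units.val_pow_eq_pow_val, Units.val_pow_eq_pow_val]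
  refine ⟨i, j, ?_⟩
  have m1 : ((P ^ i * Z ^ j : (R K V)ˣ) : R K V) * Z = c₁ • ((Z : R K V) * ((P ^ i * Z ^ j : (R K V)ˣ) : R K V)) := by
    rw [hM, ← mul_assoc, h.ZP_pow, smul_mul_assoc, smul_smul, hi, mul_inv_cancel₀ hc1, one_smul, mul_assoc, mul_assoc,
      ← pow_succ, ← pow_succ']
  have m2 : ((P ^ i * Z ^ j : (R K V)ˣ) : R K V) * P = c₂ • ((P : R K V) * ((P ^ i * Z ^ j : (R K V)ˣ) : R K V)) := by
    rw [hM, mul_assoc, h.Z_powP, mul_smul_comm, hj, ← mul_assoc, ← mul_assoc, ← pow_succ, ← pow_succ']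
  obtain ⟨c, hc⟩ := h.scalar (comm_div hc2 h2 m2) (comm_div hc1 h1 m1)
  have h7 := cj_scalar hc
  rw [map_mul, map_inv, mul_inv_eq_one] at h7
  exact h7

variable {b : Basis (ZMod r) K V}

/-- coordinates -/
theorem repr_D (h : Heis r ω P Z) {d : ZMod r → K} {D : R K V} (hD : ∀ i, D (b i) = d i • b i) (w : V)
    (j : ZMod r) : b.repr (D w) j = d j * b.repr w j := by
  have : NeZero r := ⟨h.hr.ne_zero⟩
  have h4 : w = ∑ k, b.repr w k • b k := (b.sum_repr w).symm
  conv_lhs => rw [h4]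
  rw [map_sum, map_sum, Finsupp.finsetSum_apply, Finset.sum_eq_single j]
  · rw [map_smul, hD, map_smul, map_smul, Basis.repr_self, Finsupp.smul_apply, Finsupp.smul_apply,
      Finsupp.single_eq_same, smul_eq_mul, smul_eq_mul, mul_one, mul_comm]
  · intro k _ hk
    rw [map_smul, hD, map_smul, map_smul, Basis.repr_self, Finsupp.smul_apply, Finsupp.smul_apply,
      Finsupp.single_eq_of_ne (Ne.symm hk), smul_zero, smul_zero]
  · intro hj; exact absurd (Finset.mem_univ j) hj

theorem eigvec (h : Heis r ω P Z) (hZ : ∀ i, (Z : R K V) (b i) = ch r ω i • b i) {w : V} (hw : w ≠ 0) {c : K}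
    (hc : (Z : R K V) w = c • w) : ∃ (k : ZMod r) (t : K), ch r ω k = c ∧ t ≠ 0 ∧ w = t • b k := by
  have h1 : ∃ k, b.repr w k ≠ 0 := by
    by_contra hcon
    push Not at hcon
    exact hw (b.repr.injective (by rw [map_zero]; exact Finsupp.ext hcon))
  obtain ⟨k, hk⟩ := h1
  have h2 : ∀ j, (ch r ω j - c) * b.repr w j = 0 := by
    intro j
    have h3 := h.repr_D hZ w j
    rw [hc, map_smul, Finsupp.smul_apply, smul_eq_mul] at h3
    rw [sub_mul, ← h3, sub_self]
  have h4 : ch r ω k = c := sub_eq_zero.1 ((mul_eq_zero.1 (h2 k)).resolve_right hk)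
  refine ⟨k, b.repr w k, h4, hk, b.repr.injective (Finsupp.ext fun j => ?_)⟩
  rw [map_smul, Basis.repr_self, Finsupp.smul_apply, Finsupp.single_apply]
  by_cases hj : k = j
  · rw [if_pos hj, hj, smul_eq_mul, mul_one]
  · rw [if_neg hj, smul_zero]
    rcases mul_eq_zero.1 (h2 j) with h5 | h5
    · rw [← h4] at h5
      exact absurd (h.ch_inj (sub_eq_zero.1 h5)).symm hj
    · exact h5

theorem eigmap (h : Heis r ω P Z) (hZ : ∀ i, (Z : R K V) (b i) = ch r ω i • b i) {T : R K V} (hT : T ≠ 0)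
    {a c : K} (ha : T * Z = a • T) (hc : (Z : R K V) * T = c • T) :
    ∃ (k l : ZMod r) (t : K), ch r ω l = a ∧ ch r ω k = c ∧ t ≠ 0 ∧ T (b l) = t • b k ∧ ∀ m, m ≠ l → T (b m) = 0 := by
  have h1 : ∃ l, T (b l) ≠ 0 := by
    by_contra hcon
    push Not at hcon
    exact hT (b.ext fun i => by rw [hcon i]; rfl)
  obtain ⟨l, hl⟩ := h1
  have h2 : ∀ m, (ch r ω m - a) • T (b m) = 0 := by
    intro m
    have h3 := LinearMap.congr_fun ha (b m)
    rw [Module.End.mul_apply, hZ, map_smul, LinearMap.smul_apply] at h3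
    rw [sub_smul, h3, sub_self]
  have h4 : ch r ω l = a := sub_eq_zero.1 ((smul_eq_zero.1 (h2 l)).resolve_right hl)
  obtain ⟨k, t, hk, ht, hkt⟩ := h.eigvec hZ hl (c := c) (by
    have h5 := LinearMap.congr_fun hc (b l)
    rwa [Module.End.mul_apply, LinearMap.smul_apply] at h5)
  refine ⟨k, l, t, h4, hk, ht, hkt, fun m hm => ?_⟩
  rcases smul_eq_zero.1 (h2 m) with h5 | h5
  · rw [← h4] at h5
    exact absurd (h.ch_inj (sub_eq_zero.1 h5)) hm
  · exact h5

/-- the matrix unit `E_{01}` -/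
noncomputable def E (b : Basis (ZMod r) K V) : R K V := b.constr K fun i => if i = 1 then b 0 else 0

theorem E_one : E b (b 1) = b 0 := by
  show b.constr K _ (b 1) = b 0
  rw [Basis.constr_basis, if_pos rfl]

theorem E_ne {m : ZMod r} (hm : m ≠ 1) : E b (b m) = 0 := by
  show b.constr K _ (b m) = 0
  rw [Basis.constr_basis, if_neg hm]

theorem zero_ne (h : Heis r ω P Z) : (0 : ZMod r) ≠ 1 := by
  have : Fact (1 < r) := ⟨h.hr.one_lt⟩
  exact zero_ne_one

theorem E_sq (h : Heis r ω P Z) : E b * E b = 0 := by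
  refine b.ext fun i => ?_
  by_cases hi : i = 1
  · rw [hi, Module.End.mul_apply, E_one, E_ne h.zero_ne]; rfl
  · rw [Module.End.mul_apply, E_ne hi, map_zero]; rfl

theorem E_ne_zero : E b ≠ 0 := by
  intro h0
  have h1 : E b (b 1) = b 0 := E_one
  rw [h0] at h1
  exact b.ne_zero 0 h1.symm

theorem E_Z (h : Heis r ω P Z) (hZ : ∀ i, (Z : R K V) (b i) = ch r ω i • b i) : E b * Z = ω • E b := by
  refine b.ext fun i => ?_
  rw [Module.End.mul_apply, hZ, map_smul, LinearMap.smul_apply]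
  by_cases hi : i = 1
  · rw [hi, h.ch_one]
  · rw [E_ne hi, smul_zero, smul_zero]

theorem Z_E (h : Heis r ω P Z) (hZ : ∀ i, (Z : R K V) (b i) = ch r ω i • b i) : (Z : R K V) * E b = E b := by
  refine b.ext fun i => ?_
  rw [Module.End.mul_apply]
  by_cases hi : i = 1
  · rw [hi, E_one, hZ, h.ch_zero, one_smul]
  · rw [E_ne hi, map_zero]

theorem EP_sq (hP : ∀ i, (P : R K V) (b i) = b (i + 1)) : E b * P * (E b * P) = E b * P := by
  have h1 : ∀ i, (E b * P) (b i) = E b (b (i + 1)) := fun i => by rw [Module.End.mul_apply, hP]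
  refine b.ext fun i => ?_
  rw [Module.End.mul_apply, h1]
  by_cases hi : i = 0
  · rw [hi, zero_add, E_one, h1, zero_add, E_one]
  · have hi' : i + 1 ≠ 1 := fun h0 => hi (by simpa using h0)
    rw [E_ne hi', map_zero]

theorem EP_ne (hP : ∀ i, (P : R K V) (b i) = b (i + 1)) : E b * P ≠ 0 := by
  intro h0
  have h1 : (E b * P) (b 0) = b 0 := by rw [Module.End.mul_apply, hP, zero_add, E_one]
  rw [h0] at h1
  exact b.ne_zero 0 h1.symm

/-- **the core computation** -/
theorem core (h : Heis r ω P Z) (hZ : ∀ i, (Z : R K V) (b i) = ch r ω i • b i)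
    (hP : ∀ i, (P : R K V) (b i) = b (i + 1)) {δ : K} (hδ : δ ≠ 0) {T : R K V} (hT : T ≠ 0) {a c : K}
    (ha : T * Z = a • T) (hc : (Z : R K V) * T = c • T) (hac : a ≠ c) {U : R K V}
    (hU : U = (1 + δ • E b) * (1 + T)) {i j : ℕ} {ν : K}
    (hUZ : U * Z = (ν • ((P : R K V) ^ i * (Z : R K V) ^ j)) * U) : T = -(δ • E b) := by
  have : NeZero r := ⟨h.hr.ne_zero⟩
  obtain ⟨k, l, t, hla, hkc, ht, hTl, hTm⟩ := h.eigmap hZ hT ha hc
  have hkl : k ≠ l := by rintro rfl; exact hac (hla.symm.trans hkc)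
  have h01 := h.zero_ne
  -- `P^i Z^j` on the basis
  have hPi : ∀ (n : ℕ) (m : ZMod r), ((P : R K V) ^ n) (b m) = b (m + n) := by
    intro n m
    induction n with
    | zero => rw [pow_zero, Nat.cast_zero, add_zero]; rfl
    | succ n ih => rw [pow_succ', Module.End.mul_apply, ih, hP, Nat.cast_succ, add_assoc]
  have hZj : ∀ (n : ℕ) (m : ZMod r), ((Z : R K V) ^ n) (b m) = ch r ω m ^ n • b m := by
    intro n m
    induction n with
    | zero => rw [pow_zero, pow_zero, one_smul]; rfl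
    | succ n ih => rw [pow_succ', Module.End.mul_apply, ih, map_smul, hZ, smul_smul, pow_succ]
  set Y : R K V := ν • ((P : R K V) ^ i * (Z : R K V) ^ j) with hY
  have hYm : ∀ m, Y (b m) = (ν * ch r ω m ^ j) • b (m + i) := by
    intro m
    rw [hY, LinearMap.smul_apply, Module.End.mul_apply, hZj, map_smul, hPi, smul_smul]
  have hUb : ∀ v, U v = (v + T v) + δ • E b (v + T v) := by
    intro v
    rw [hU]
    rfl
  have hUm : ∀ m, m ≠ 1 → m ≠ l → U (b m) = b m := by
    intro m h1 h2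
    rw [hUb, hTm m h2, add_zero, E_ne h1, smul_zero, add_zero]
  have hUY : ∀ m, ch r ω m • U (b m) = Y (U (b m)) := by
    intro m
    have h1 := LinearMap.congr_fun hUZ (b m)
    rwa [Module.End.mul_apply, hZ, map_smul, Module.End.mul_apply] at h1
  -- a third index
  have h3 : ∃ m : ZMod r, m ≠ 1 ∧ m ≠ l := by
    by_contra hcon
    push Not at hcon
    have h4 : (Finset.univ : Finset (ZMod r)) ⊆ {1, l} := by
      intro m _
      rw [Finset.mem_insert, Finset.mem_singleton]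
      by_cases hm : m = 1
      · exact Or.inl hm
      · exact Or.inr (hcon m hm)
    have h5 := (Finset.card_le_card h4).trans Finset.card_le_two
    rw [Finset.card_univ, ZMod.card] at h5
    have h6 := h.hr.two_le
    have h7 := h.odd
    omega
  have hi0 : (i : ZMod r) = 0 := by
    obtain ⟨m, hm1, hml⟩ := h3
    have h4 := hUY m
    rw [hUm m hm1 hml, hYm] at h4
    by_contra hi
    have h5 := congrArg (fun v => b.repr v m) h4
    have h6 : m + (i : ZMod r) ≠ m := by simpa using hi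
    simp only [map_smul, Basis.repr_self, Finsupp.smul_apply, Finsupp.single_eq_same,
      Finsupp.single_eq_of_ne (Ne.symm h6), smul_eq_mul, mul_one, mul_zero] at h5
    exact h.ch_ne m h5
  have hYd : ∀ m, Y (b m) = (ν * ch r ω m ^ j) • b m := by
    intro m
    rw [hYm, hi0, add_zero]
  set d : ZMod r → K := fun m => ν * ch r ω m ^ j with hd
  have hmn : ∀ m n, b.repr (U (b m)) n ≠ 0 → ch r ω m = d n := by
    intro m n hne
    have h4 := congrArg (fun v => b.repr v n) (hUY m)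
    simp only [map_smul, Finsupp.smul_apply, smul_eq_mul] at h4
    rw [h.repr_D hYd] at h4
    exact mul_right_cancel₀ hne h4
  have hdm : ∀ m, m ≠ 1 → m ≠ l → ch r ω m = d m := by
    intro m h1 h2
    apply hmn
    rw [hUm m h1 h2, Basis.repr_self, Finsupp.single_eq_same]
    exact one_ne_zero
  by_cases hl1 : l = 1
  · subst hl1
    have hU1 : U (b 1) = b 1 + δ • b 0 + t • b k := by
      rw [hUb, hTl, map_add, map_smul, E_one, E_ne hkl, smul_zero, add_zero]
      abel
    have h5 : ch r ω 1 = d 0 → False := fun h6 =>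
      h01 (h.ch_inj ((hdm 0 h01 h01).trans h6.symm))
    by_cases hk0 : k = 0
    · subst hk0
      have h6 : δ + t = 0 := by
        by_contra hne
        apply h5
        apply hmn
        rw [hU1, map_add, map_add, map_smul, map_smul, Basis.repr_self, Basis.repr_self, Finsupp.add_apply,
          Finsupp.add_apply, Finsupp.smul_apply, Finsupp.smul_apply, Finsupp.single_eq_same,
          Finsupp.single_eq_of_ne h01, zero_add, smul_eq_mul, smul_eq_mul, mul_one, mul_one]
        exact hne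
      refine b.ext fun m => ?_
      by_cases hm : m = 1
      · rw [hm, hTl, LinearMap.neg_apply, LinearMap.smul_apply, E_one, ← neg_smul]
        congr 1
        linear_combination h6
      · rw [hTm m hm, LinearMap.neg_apply, LinearMap.smul_apply, E_ne hm, smul_zero, neg_zero]
    · exfalso
      apply h5
      apply hmn
      rw [hU1, map_add, map_add, map_smul, map_smul, Basis.repr_self, Basis.repr_self, Basis.repr_self,
        Finsupp.add_apply, Finsupp.add_apply, Finsupp.smul_apply, Finsupp.smul_apply, Finsupp.single_eq_same,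
        Finsupp.single_eq_of_ne h01, Finsupp.single_eq_of_ne (Ne.symm hk0), zero_add, smul_zero, add_zero,
        smul_eq_mul, mul_one]
      exact hδ
  · exfalso
    have hU1 : U (b 1) = b 1 + δ • b 0 := by
      rw [hUb, hTm 1 (Ne.symm hl1), add_zero, E_one]
    have h5 : ch r ω 1 = d 0 := by
      apply hmn
      rw [hU1, map_add, map_smul, Basis.repr_self, Basis.repr_self, Finsupp.add_apply, Finsupp.smul_apply,
        Finsupp.single_eq_same, Finsupp.single_eq_of_ne h01, zero_add, smul_eq_mul, mul_one]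
      exact hδ
    by_cases hl0 : l = 0
    · subst hl0
      by_cases hk1 : k = 1
      · subst hk1
        have hU0 : U (b 0) = b 0 + t • b 1 + (δ * t) • b 0 := by
          rw [hUb, hTl, map_add, map_smul, E_one, E_ne h01, zero_add, smul_smul]
        have h6 : ch r ω 0 = d 1 := by
          apply hmn
          rw [hU0, map_add, map_add, map_smul, map_smul, Basis.repr_self, Basis.repr_self, Finsupp.add_apply,
            Finsupp.add_apply, Finsupp.smul_apply, Finsupp.smul_apply, Finsupp.single_eq_same,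
            Finsupp.single_eq_of_ne (Ne.symm h01), zero_add, smul_zero, add_zero, smul_eq_mul, mul_one]
          exact ht
        have h7 : ch r ω 1 = d 1 := by
          apply hmn
          rw [hU1, map_add, map_smul, Basis.repr_self, Basis.repr_self, Finsupp.add_apply, Finsupp.smul_apply,
            Finsupp.single_eq_same, Finsupp.single_eq_of_ne (Ne.symm h01), smul_zero, add_zero]
          exact one_ne_zero
        exact h01 (h.ch_inj (h6.trans h7.symm))
      · have hU0 : U (b 0) = b 0 + t • b k := by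
          rw [hUb, hTl, map_add, map_smul, E_ne hk1, E_ne h01, smul_zero, add_zero, smul_zero, add_zero]
        have h6 : ch r ω 0 = d 0 := by
          apply hmn
          rw [hU0, map_add, map_smul, Basis.repr_self, Basis.repr_self, Finsupp.add_apply, Finsupp.smul_apply,
            Finsupp.single_eq_same, Finsupp.single_eq_of_ne (Ne.symm hkl), smul_zero, add_zero]
          exact one_ne_zero
        exact h01 (h.ch_inj (h6.trans h5.symm))
    · exact h01 (h.ch_inj ((hdm 0 h01 (Ne.symm hl0)).trans h5.symm))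

end Heis

end Cfsg.Agent.H710.FC
end

-- part: H710/FC/Star
section
/-!
# S5764, extraspecial normalizers in odd prime degree (helper710): automorphisms centralizing `A`
-/

set_option autoImplicit false

universe u v

namespace Cfsg.Agent.H710.FC

open Module Cfsg.Agent.H198.FC Cfsg.Agent.H886.FC

variable {K : Type u} [Field K] {V : Type v} [AddCommGroup V] [Module K V]

/-- the unit `1 + N`, `N² = 0` -/
def uN (N : R K V) (h : N * N = 0) : (R K V)ˣ where
  val := 1 + N
  inv := 1 - N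
  val_inv := by rw [mul_sub, mul_one, add_mul, one_mul, h]; abel
  inv_val := by rw [mul_add, mul_one, sub_mul, one_mul, h]; abel

theorem uN_val (N : R K V) (h : N * N = 0) : (uN N h : R K V) = 1 + N := rfl

theorem uN_inv (N : R K V) (h : N * N = 0) : (((uN N h)⁻¹ : (R K V)ˣ) : R K V) = 1 - N := rfl

theorem det_uN [Module.Finite K V] (N : R K V) (h : N * N = 0) : LinearMap.det (uN N h : R K V) = 1 := by
  apply det_one_of_nilp
  refine ⟨2, ?_⟩
  rw [uN_val, add_sub_cancel_left, pow_two, h]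

/-- the field of the scalars fixed by `f` -/
def fixF {f : Equiv.Perm (R K V)} (hf : f ∈ RA K V) : Subfield K where
  carrier := {c | f (c • (1 : R K V)) = c • (1 : R K V)}
  mul_mem' := by
    intro x y hx hy
    show f ((x * y) • (1 : R K V)) = (x * y) • (1 : R K V)
    have h1 : (x • (1 : R K V)) * (y • (1 : R K V)) = (x * y) • (1 : R K V) := by
      rw [smul_mul_assoc, one_mul, smul_smul]
    have h2 : (x • (1 : R K V)) * (y • (1 : R K V)) = (y • (1 : R K V)) * (x • (1 : R K V)) := by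
      rw [smul_mul_assoc, one_mul, smul_mul_assoc, one_mul, smul_smul, smul_smul, mul_comm]
    rw [← h1, ra_mul_of_comm hf h2, hx, hy]
  one_mem' := by
    show f ((1 : K) • (1 : R K V)) = (1 : K) • (1 : R K V)
    rw [one_smul, ra_one hf]
  add_mem' := by
    intro x y hx hy
    show f ((x + y) • (1 : R K V)) = (x + y) • (1 : R K V)
    rw [add_smul, ra_add hf, hx, hy]
  zero_mem' := by
    show f ((0 : K) • (1 : R K V)) = (0 : K) • (1 : R K V)
    rw [zero_smul, ra_zero hf]
  neg_mem' := by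
    intro x hx
    show f ((-x) • (1 : R K V)) = (-x) • (1 : R K V)
    rw [neg_smul, ra_neg hf, hx]
  inv_mem' := by
    intro x hx
    show f (x⁻¹ • (1 : R K V)) = x⁻¹ • (1 : R K V)
    have hx' : f (x • (1 : R K V)) = x • (1 : R K V) := hx
    by_cases h0 : x = 0
    · rw [h0, inv_zero, zero_smul, ra_zero hf]
    · have h1 : (x • (1 : R K V)) * (x⁻¹ • (1 : R K V)) = 1 := by
        rw [smul_mul_assoc, one_mul, smul_smul, mul_inv_cancel₀ h0, one_smul]
      have h2 : (x • (1 : R K V)) * (x⁻¹ • (1 : R K V)) = (x⁻¹ • (1 : R K V)) * (x • (1 : R K V)) := by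
        rw [smul_mul_assoc, one_mul, smul_mul_assoc, one_mul, smul_smul, smul_smul, mul_comm]
      have h3 := ra_mul_of_comm hf h2
      rw [h1, ra_one hf, hx', smul_mul_assoc, one_mul] at h3
      calc f (x⁻¹ • (1 : R K V)) = x⁻¹ • (x • f (x⁻¹ • (1 : R K V))) := by
            rw [smul_smul, inv_mul_cancel₀ h0, one_smul]
        _ = x⁻¹ • (1 : R K V) := by rw [← h3]

theorem mem_fixF {f : Equiv.Perm (R K V)} (hf : f ∈ RA K V) {c : K} :
    c ∈ fixF hf ↔ f (c • (1 : R K V)) = c • (1 : R K V) := Iff.rfl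

theorem fixF_smul {f : Equiv.Perm (R K V)} (hf : f ∈ RA K V) {c : K} (hc : c ∈ fixF hf) (X : R K V) :
    f (c • X) = c • f X := by
  have h : (c • (1 : R K V)) * X = X * (c • (1 : R K V)) := by
    rw [smul_mul_assoc, one_mul, mul_smul_comm, mul_one]
  have h1 := ra_mul_of_comm hf h
  rwa [smul_mul_assoc, one_mul, hc, smul_mul_assoc, one_mul] at h1

variable {r : ℕ} {ω : K} {P Z : (R K V)ˣ} {b : Basis (ZMod r) K V}

/-- the condition on `δ` -/
def Gen (r : ℕ) (ω δ : K) : Prop := δ ≠ 0 ∧ ∀ K₀ : Subfield K, ω ∈ K₀ → δ ^ r ∈ K₀ → K₀ = ⊤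

theorem Heis.EE (h : Heis r ω P Z) (δ : K) : (δ • Heis.E b) * (δ • Heis.E b) = 0 := by
  rw [smul_mul_assoc, mul_smul_comm, h.E_sq, smul_zero, smul_zero]

/-- **(1)**: if `f` centralizes `A` and `x f x⁻¹` normalizes it then `f` is trivial -/
theorem Heis.star [Module.Finite K V] (h : Heis r ω P Z) (hZ : ∀ i, (Z : R K V) (b i) = Heis.ch r ω i • b i)
    (hP : ∀ i, (P : R K V) (b i) = b (i + 1)) {δ : K} (hδ : Gen r ω δ) {f : Equiv.Perm (R K V)} (hf : f ∈ RA K V)
    (fP : f * cj K V P * f⁻¹ = cj K V P) (fZ : f * cj K V Z * f⁻¹ = cj K V Z)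
    {g : Equiv.Perm (R K V)} (hg : g = cj K V (uN _ (h.EE (b := b) δ)) * f * (cj K V (uN _ (h.EE (b := b) δ)))⁻¹ * f⁻¹)
    {i j : ℕ} (gZ : g * cj K V Z * g⁻¹ = cj K V (P ^ i * Z ^ j)) :
    f P = P ∧ f Z = Z ∧ (∀ c : K, ∀ X : R K V, f (c • X) = c • f X) ∧ ∀ X Y : R K V, f (X * Y) = f X * f Y := by
  obtain ⟨hδ0, hδK⟩ := hδ
  have hnt : Nontrivial V := by
    apply Module.nontrivial_of_finrank_pos (R := K)
    rw [h.rank]; exact h.hr.pos
  set x : (R K V)ˣ := uN _ (h.EE (b := b) δ) with hx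
  set E : R K V := Heis.E b with hE
  have hinj : ∀ X Y : R K V, f X = f Y → X = Y := fun X Y hXY => f.injective hXY
  obtain ⟨ω', hω'⟩ := ra_smul hf ω
  obtain ⟨δ', hδ'⟩ := ra_smul hf δ
  have hT0 : f E ≠ 0 := by
    intro h0
    exact Heis.E_ne_zero (b := b) (hinj _ _ (h0.trans (ra_zero hf).symm))
  have hω'0 : ω' ≠ 0 := by
    intro h0
    have h1 := hω' 1
    rw [h0, zero_smul, ← ra_zero hf] at h1
    exact (smul_ne_zero h.ω_ne one_ne_zero) (hinj _ _ h1)
  have hω'1 : ω' ≠ 1 := by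
    intro h0
    have h1 := hinj _ _ ((hω' 1).trans (by rw [h0, one_smul] : ω' • f 1 = f 1))
    have h2 : (ω - 1) • (1 : R K V) = 0 := by rw [sub_smul, h1, one_smul, sub_self]
    exact h.prim.ne_one h.hr.one_lt (sub_eq_zero.1 ((smul_eq_zero.1 h2).resolve_right one_ne_zero))
  have hδ'0 : δ' ≠ 0 := by
    intro h0
    have h1 := hδ' 1
    rw [h0, zero_smul, ← ra_zero hf] at h1
    exact (smul_ne_zero hδ0 one_ne_zero) (hinj _ _ h1)
  have EZ : E * Z = ω • E := h.E_Z hZ
  have ZE : (Z : R K V) * E = E := h.Z_E hZ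
  -- from the equation `g cj(Z) g⁻¹ = cj(P^i Z^j)` to the core computation
  have main : ∀ (u : (R K V)ˣ) (T : R K V), g = cj K V u → (u : R K V) = (1 + δ • E) * (1 + T) → T ≠ 0 →
      ∀ a c : K, T * Z = a • T → (Z : R K V) * T = c • T → a ≠ c → T = -(δ • E) := by
    intro u T hgu hu hT a c ha hc hac
    rw [hgu, ← map_mul, ← map_inv, ← map_mul] at gZ
    obtain ⟨ν, hν⟩ := cj_eq_cj gZ
    refine h.core (i := i) (j := j) (ν := ν) hZ hP hδ0 hT ha hc hac hu ?_
    have h2 : (((P ^ i * Z ^ j : (R K V)ˣ)) : R K V) = (P : R K V) ^ i * (Z : R K V) ^ j := by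
      rw [Units.val_mul, Units.val_pow_eq_pow_val, Units.val_pow_eq_pow_val]
    rw [← h2, ← hν, Units.val_mul, Units.val_mul, mul_assoc, Units.inv_mul, mul_one]
  rcases hf.2 with hm | hm
  · -- automorphisms
    rw [conj_cj_rp hf hm] at fP fZ
    obtain ⟨μ, hμ⟩ := cj_eq_cj fP
    obtain ⟨l, hl⟩ := cj_eq_cj fZ
    rw [fU_val] at hμ hl
    have hl0 : l ≠ 0 := by
      intro h0
      rw [h0, zero_smul, ← ra_zero hf] at hl
      exact Z.ne_zero (hinj _ _ hl)
    have TZ : f E * Z = (l⁻¹ * ω') • f E := by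
      have h1 := hm E Z
      rw [EZ, hω', hl, mul_smul_comm] at h1
      rw [mul_smul, h1, smul_smul, inv_mul_cancel₀ hl0, one_smul]
    have ZT : (Z : R K V) * f E = l⁻¹ • f E := by
      have h1 := hm Z E
      rw [ZE, hl, smul_mul_assoc] at h1
      conv_rhs => rw [h1]
      rw [smul_smul, inv_mul_cancel₀ hl0, one_smul]
    have hu : g = cj K V (x * (fU f hf x)⁻¹) := by
      rw [hg, map_mul, map_inv, ← conj_cj_rp hf hm]
      group
    have hT := main (x * (fU f hf x)⁻¹) (-(δ' • f E)) hu (by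
        have h1 : (((fU f hf x)⁻¹ : (R K V)ˣ) : R K V) = f ((x⁻¹ : (R K V)ˣ) : R K V) := rfl
        rw [Units.val_mul, h1, hx, uN_val, uN_inv, ra_sub hf, ra_one hf, hδ', sub_eq_add_neg])
      (neg_ne_zero.2 (smul_ne_zero hδ'0 hT0)) (l⁻¹ * ω') l⁻¹
      (by rw [neg_mul, smul_mul_assoc, TZ, smul_neg, smul_comm])
      (by rw [mul_neg, mul_smul_comm, ZT, smul_neg, smul_comm])
      (fun h0 => hω'1 (mul_left_cancel₀ (inv_ne_zero hl0) (by rw [h0, mul_one])))
    rw [neg_inj] at hT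
    have hκ : f E = (δ'⁻¹ * δ) • E := by
      rw [mul_smul, ← hT, smul_smul, inv_mul_cancel₀ hδ'0, one_smul]
    -- `l = 1`, `ω' = ω`
    have hl1 : l = 1 := by
      have h1 : (Z : R K V) * f E = f E := by rw [hκ, mul_smul_comm, ZE]
      rw [ZT] at h1
      have h2 : (l⁻¹ - 1) • f E = 0 := by rw [sub_smul, h1, one_smul, sub_self]
      have h3 := sub_eq_zero.1 ((smul_eq_zero.1 h2).resolve_right hT0)
      exact inv_eq_one.1 h3
    have hω1 : ω' = ω := by
      have h1 : f E * Z = ω • f E := by rw [hκ, smul_mul_assoc, EZ, smul_comm]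
      rw [TZ, hl1, inv_one, one_mul] at h1
      have h2 : (ω' - ω) • f E = 0 := by rw [sub_smul, h1, sub_self]
      exact sub_eq_zero.1 ((smul_eq_zero.1 h2).resolve_right hT0)
    rw [hl1, one_smul] at hl
    -- `δ' = μ δ`
    have hμ1 : δ' = μ * δ := by
      have h1 : f (E * P * (E * P)) = f (E * P) := by rw [Heis.EP_sq hP]
      have h2 : f (E * P) = (δ'⁻¹ * δ * μ) • (E * P) := by
        rw [hm, hκ, hμ, smul_mul_assoc, mul_smul_comm, smul_smul]
      rw [hm, h2, smul_mul_assoc, mul_smul_comm, Heis.EP_sq hP, smul_smul] at h1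
      have h3 : ((δ'⁻¹ * δ * μ) * (δ'⁻¹ * δ * μ) - δ'⁻¹ * δ * μ) • (E * P) = 0 := by rw [sub_smul, h1, sub_self]
      have h4 := (smul_eq_zero.1 h3).resolve_right (Heis.EP_ne hP)
      have hμ0 : μ ≠ 0 := by
        intro h0
        rw [h0, zero_smul, ← ra_zero hf] at hμ
        exact P.ne_zero (hinj _ _ hμ)
      have h5 : δ'⁻¹ * δ * μ ≠ 0 := mul_ne_zero (mul_ne_zero (inv_ne_zero hδ'0) hδ0) hμ0
      have h6 : δ'⁻¹ * δ * μ = 1 := by
        apply mul_left_cancel₀ h5
        linear_combination h4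
      calc δ' = δ' * (δ'⁻¹ * δ * μ) := by rw [h6, mul_one]
        _ = (δ' * δ'⁻¹) * (μ * δ) := by ring
        _ = μ * δ := by rw [mul_inv_cancel₀ hδ'0, one_mul]
    have hμr : μ ^ r = 1 := by
      have h1 := ra_pow hf (P : R K V) r
      rw [h.Pr', ra_one hf, hμ, smul_pow, h.Pr'] at h1
      have h2 : (μ ^ r - 1) • (1 : R K V) = 0 := by rw [sub_smul, ← h1, one_smul, sub_self]
      exact sub_eq_zero.1 ((smul_eq_zero.1 h2).resolve_right one_ne_zero)
    -- the fixed field
    have hK : fixF hf = ⊤ := by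
      apply hδK
      · rw [mem_fixF, hω' 1, ra_one hf, hω1]
      · rw [mem_fixF]
        have h1 : (δ ^ r) • (1 : R K V) = (δ • (1 : R K V)) ^ r := by rw [smul_pow, one_pow]
        rw [h1, ra_pow hf, hδ' 1, ra_one hf, smul_pow, one_pow, hμ1, mul_pow, hμr, one_mul, smul_pow, one_pow]
    have hlin : ∀ c : K, ∀ X : R K V, f (c • X) = c • f X := by
      intro c X
      apply fixF_smul hf
      rw [hK]
      exact Subfield.mem_top c
    have hμ2 : μ = 1 := by
      have h1 := hδ' 1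
      rw [hlin, ra_one hf] at h1
      have h2 : (δ - δ') • (1 : R K V) = 0 := by rw [sub_smul, h1, sub_self]
      have h3 := sub_eq_zero.1 ((smul_eq_zero.1 h2).resolve_right one_ne_zero)
      rw [hμ1] at h3
      exact (mul_right_cancel₀ hδ0 (by rw [one_mul]; exact h3 : (1 : K) * δ = μ * δ)).symm
    rw [hμ2, one_smul] at hμ
    exact ⟨hμ, hl, hlin, hm⟩
  · -- anti-automorphisms
    exfalso
    rw [conj_cj_anti hf hm, ← map_inv] at fP fZ
    have fP' : cj K V (fU f hf P) = cj K V P⁻¹ := by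
      rw [map_inv, ← fP, map_inv, inv_inv]
    have fZ' : cj K V (fU f hf Z) = cj K V Z⁻¹ := by
      rw [map_inv, ← fZ, map_inv, inv_inv]
    obtain ⟨μ, hμ⟩ := cj_eq_cj fP'
    obtain ⟨l, hl⟩ := cj_eq_cj fZ'
    rw [fU_val] at hμ hl
    have hl0 : l ≠ 0 := by
      intro h0
      rw [h0, zero_smul, ← ra_zero hf] at hl
      exact Z.ne_zero (hinj _ _ hl)
    have hμ0 : μ ≠ 0 := by
      intro h0
      rw [h0, zero_smul, ← ra_zero hf] at hμ
      exact P.ne_zero (hinj _ _ hμ)
    have TZ : f E * Z = l • f E := by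
      have h1 := hm Z E
      rw [ZE, hl, mul_smul_comm] at h1
      calc f E * Z = (l • (f E * ((Z⁻¹ : (R K V)ˣ) : R K V))) * Z := by rw [← h1]
        _ = l • f E := by rw [smul_mul_assoc, mul_assoc, Units.inv_mul, mul_one]
    have ZT : (Z : R K V) * f E = (l * ω'⁻¹) • f E := by
      have h1 := hm E Z
      rw [EZ, hω', hl, smul_mul_assoc] at h1
      have h2 : f E = ω'⁻¹ • l • (((Z⁻¹ : (R K V)ˣ) : R K V) * f E) := by
        rw [← h1, smul_smul, inv_mul_cancel₀ hω'0, one_smul]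
      conv_lhs => rw [h2]
      rw [mul_smul_comm, mul_smul_comm, ← mul_assoc, Units.mul_inv, one_mul, smul_smul, mul_comm]
    have hu : g = cj K V (x * fU f hf x) := by
      have h1 : f * (cj K V x)⁻¹ * f⁻¹ = cj K V (fU f hf x) := by
        have h2 := conj_cj_anti hf hm x
        calc f * (cj K V x)⁻¹ * f⁻¹ = (f * cj K V x * f⁻¹)⁻¹ := by group
          _ = cj K V (fU f hf x) := by rw [h2, inv_inv]
      rw [hg, map_mul, ← h1]
      group
    have hT := main (x * fU f hf x) (δ' • f E) hu (by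
        rw [Units.val_mul, fU_val, hx, uN_val, ra_add hf, ra_one hf, hδ'])
      (smul_ne_zero hδ'0 hT0) l (l * ω'⁻¹)
      (by rw [smul_mul_assoc, TZ, smul_comm])
      (by rw [mul_smul_comm, ZT, smul_comm])
      (fun h0 => hω'1 (by
        have h1 : l * ω' = l * 1 := by
          rw [mul_one]
          calc l * ω' = (l * ω'⁻¹) * ω' := by rw [← h0]
            _ = l := by rw [mul_assoc, inv_mul_cancel₀ hω'0, mul_one]
        exact mul_left_cancel₀ hl0 h1))
    have hκ : f E = (-(δ'⁻¹ * δ)) • E := by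
      rw [neg_smul, mul_smul, ← smul_neg, ← hT, smul_smul, inv_mul_cancel₀ hδ'0, one_smul]
    have hl1 : l * ω'⁻¹ = 1 := by
      have h1 : (Z : R K V) * f E = f E := by rw [hκ, mul_smul_comm, ZE]
      rw [ZT] at h1
      have h2 : (l * ω'⁻¹ - 1) • f E = 0 := by rw [sub_smul, h1, one_smul, sub_self]
      exact sub_eq_zero.1 ((smul_eq_zero.1 h2).resolve_right hT0)
    have hl2 : l = ω := by
      have h1 : f E * Z = ω • f E := by rw [hκ, smul_mul_assoc, EZ, smul_comm]
      rw [TZ] at h1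
      have h2 : (l - ω) • f E = 0 := by rw [sub_smul, h1, sub_self]
      exact sub_eq_zero.1 ((smul_eq_zero.1 h2).resolve_right hT0)
    have hω1 : ω' = ω := by
      rw [← hl2]
      calc ω' = (l * ω'⁻¹) * ω' := by rw [hl1, one_mul]
        _ = l := by rw [mul_assoc, inv_mul_cancel₀ hω'0, mul_one]
    -- from `Z P = ω P Z`
    have h1 : f ((Z : R K V) * P) = ω' • f ((P : R K V) * Z) := by rw [h.comm, hω']
    rw [hm, hm, hμ, hl, smul_mul_assoc, mul_smul_comm, smul_mul_assoc, mul_smul_comm] at h1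
    have h2 : ((P⁻¹ : (R K V)ˣ) : R K V) * ((Z⁻¹ : (R K V)ˣ) : R K V) =
        ω' • (((Z⁻¹ : (R K V)ˣ) : R K V) * ((P⁻¹ : (R K V)ˣ) : R K V)) := by
      have h3 : (μ * l) • (((P⁻¹ : (R K V)ˣ) : R K V) * ((Z⁻¹ : (R K V)ˣ) : R K V)) =
          (μ * l) • (ω' • (((Z⁻¹ : (R K V)ˣ) : R K V) * ((P⁻¹ : (R K V)ˣ) : R K V))) := by
        rw [mul_smul, h1, smul_smul, smul_smul, smul_smul]
        congr 1
        ring
      exact smul_right_injective (R K V) (mul_ne_zero hμ0 hl0) h3
    have h4 : (1 : R K V) = (ω * ω') • (1 : R K V) := by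
      calc (1 : R K V) = (Z : R K V) * P * (((P⁻¹ : (R K V)ˣ) : R K V) * ((Z⁻¹ : (R K V)ˣ) : R K V)) := by
            rw [mul_assoc, ← mul_assoc (P : R K V), Units.mul_inv, one_mul, Units.mul_inv]
        _ = (ω * ω') • ((P : R K V) * Z * (((Z⁻¹ : (R K V)ˣ) : R K V) * ((P⁻¹ : (R K V)ˣ) : R K V))) := by
            rw [h2, h.comm, smul_mul_assoc, mul_smul_comm, smul_smul]
        _ = (ω * ω') • (1 : R K V) := by
            rw [mul_assoc, ← mul_assoc (Z : R K V), Units.mul_inv, one_mul, Units.mul_inv]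
    have h5 : (ω ^ 2 - 1) • (1 : R K V) = 0 := by
      rw [sub_smul, one_smul, pow_two]
      conv_lhs => rw [← hω1]
      rw [hω1, ← hω1]
      rw [hω1] at h4 ⊢
      rw [← h4, sub_self]
    have h6 := sub_eq_zero.1 ((smul_eq_zero.1 h5).resolve_right one_ne_zero)
    have h7 := h.prim.dvd_of_pow_eq_one 2 h6
    exact h.odd ((Nat.prime_dvd_prime_iff_eq h.hr Nat.prime_two).1 h7)

end Cfsg.Agent.H710.FC
end

-- part: H710/FC/COdd
section
/-!
# S5764, extraspecial normalizers in odd prime degree (helper710)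

`stmtC6_prime : StmtC6On (fun n => n.Prime ∧ n ≠ 2)`, `stmtC6_three : StmtC6On (fun n => n = 3)` (task 5368),
`stmtC6_five`, `stmtC6_seven`.  Uniform proof, no counting.
-/

set_option autoImplicit false

universe u v

namespace Cfsg.Agent.H710.FC

open Module Cfsg.Agent.H198.FC Cfsg.Agent.H886.FC Cfsg.Agent.H786.FC

/-! ### the scalar `δ` -/

theorem exists_gen (K : Type u) [Field K] [Finite K] {r : ℕ} {ω : K} (hr : r.Prime) (hω : IsPrimitiveRoot ω r) :
    ∃ δ : K, Gen r ω δ := by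
  obtain ⟨γ, hγ⟩ := IsCyclic.exists_generator (α := Kˣ)
  refine ⟨(γ : K), γ.ne_zero, fun K₀ h1 h2 => ?_⟩
  have hKf : Finite K₀ := inferInstance
  have hog : orderOf γ = Nat.card K - 1 := by
    rw [orderOf_eq_card_of_forall_mem_zpowers hγ, Nat.card_units]
  have hω0 : ω ≠ 0 := hω.ne_zero hr.ne_zero
  -- `ω` as a unit of `K`
  have hωr : orderOf (Units.mk0 ω hω0) = r := by
    rw [← orderOf_units, Units.val_mk0]
    exact hω.eq_orderOf.symm
  have hrK : r ∣ orderOf γ := by
    rw [orderOf_eq_card_of_forall_mem_zpowers hγ, ← hωr]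
    exact orderOf_dvd_natCard _
  -- units of `K₀`
  have key : ∀ u : Kˣ, (u : K) ∈ K₀ → orderOf u ∣ Nat.card K₀ - 1 := by
    intro u hu
    have hu0 : (⟨(u : K), hu⟩ : K₀) ≠ 0 := by
      intro h0
      exact u.ne_zero (congrArg Subtype.val h0)
    have h3 : orderOf (Units.mk0 (⟨(u : K), hu⟩ : K₀) hu0) = orderOf u := by
      rw [← orderOf_units, ← orderOf_units, Units.val_mk0]
      exact (orderOf_injective (K₀.subtype : K₀ →* K) K₀.subtype.injective ⟨(u : K), hu⟩).symm
    rw [← h3, ← Nat.card_units]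
    exact orderOf_dvd_natCard _
  have hq0 : 2 ≤ Nat.card K₀ := Finite.one_lt_card
  have hq : 2 ≤ Nat.card K := Finite.one_lt_card
  have h3 : r ≤ Nat.card K₀ - 1 := by
    have h4 := key (Units.mk0 ω hω0) h1
    rw [hωr] at h4
    exact Nat.le_of_dvd (by omega) h4
  have h4 : (Nat.card K - 1) / r ≤ Nat.card K₀ - 1 := by
    have h5 := key (γ ^ r) (by rw [Units.val_pow_eq_pow_val]; exact h2)
    rw [orderOf_pow_of_dvd hr.ne_zero hrK, hog] at h5
    exact Nat.le_of_dvd (by omega) h5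
  have h5 : Nat.card K - 1 ≤ (Nat.card K₀ - 1) * (Nat.card K₀ - 1) := by
    rw [hog] at hrK
    calc Nat.card K - 1 = r * ((Nat.card K - 1) / r) := (Nat.mul_div_cancel' hrK).symm
      _ ≤ (Nat.card K₀ - 1) * (Nat.card K₀ - 1) := Nat.mul_le_mul h3 h4
  have h6 : Nat.card K < Nat.card K₀ ^ 2 := by
    obtain ⟨m, hm⟩ : ∃ m, Nat.card K₀ = m + 2 := ⟨Nat.card K₀ - 2, by omega⟩
    rw [hm] at h5 ⊢
    have h7 : m + 2 - 1 = m + 1 := rfl
    rw [h7] at h5
    have h8 : (m + 1) * (m + 1) = m ^ 2 + 2 * m + 1 := by ring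
    have h9 : (m + 2) ^ 2 = m ^ 2 + 4 * m + 4 := by ring
    omega
  have h7 : Nat.card K = Nat.card K₀ ^ finrank K₀ K := Module.natCard_eq_pow_finrank
  have h8 : finrank K₀ K = 1 := by
    have h9 : finrank K₀ K < 2 := by
      rw [h7] at h6
      exact (Nat.pow_lt_pow_iff_right (by omega)).1 h6
    have h10 : 0 < finrank K₀ K := by
      rcases Nat.eq_zero_or_pos (finrank K₀ K) with h11 | h11
      · rw [h11, pow_zero] at h7
        omega
      · exact h11
    omega
  rw [h8, pow_one] at h7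
  have h9 : K₀.toAddSubgroup = ⊤ := AddSubgroup.eq_top_of_card_eq _ h7.symm
  rw [eq_top_iff]
  intro c _
  have : c ∈ K₀.toAddSubgroup := by rw [h9]; exact AddSubgroup.mem_top c
  exact this

variable {K : Type u} [Field K] {V : Type v} [AddCommGroup V] [Module K V]

/-! ### the Heisenberg pair of `A` -/

/-- lifts of commuting elements commute up to a scalar -/
theorem exists_comm {x y : (R K V)ˣ} (h : cj K V x * cj K V y = cj K V y * cj K V x) :
    ∃ c : K, (x : R K V) * y = c • ((y : R K V) * x) := by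
  rw [← map_mul, ← map_mul] at h
  obtain ⟨c, hc⟩ := cj_eq_cj h
  exact ⟨c, by rw [← Units.val_mul, ← Units.val_mul]; exact hc⟩

theorem pow_comm {x y : (R K V)ˣ} {c : K} (h : (x : R K V) * y = c • ((y : R K V) * x)) (k : ℕ) :
    (x : R K V) * (y : R K V) ^ k = c ^ k • ((y : R K V) ^ k * x) := by
  induction k with
  | zero => simp
  | succ k ih =>
    rw [pow_succ, ← mul_assoc, ih, smul_mul_assoc, mul_assoc, h, mul_smul_comm, smul_smul, mul_assoc, ← pow_succ]

theorem comm_pow {x y : (R K V)ˣ} {c : K} (h : (x : R K V) * y = c • ((y : R K V) * x)) (k : ℕ) :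
    (x : R K V) ^ k * (y : R K V) = c ^ k • ((y : R K V) * (x : R K V) ^ k) := by
  induction k with
  | zero => simp
  | succ k ih =>
    rw [pow_succ', mul_assoc, ih, mul_smul_comm, ← mul_assoc, h, smul_mul_assoc, smul_smul, mul_assoc,
      ← pow_succ, ← pow_succ']

/-- `(x y)^k = c^{k(k-1)/2} x^k y^k` if `y x = c x y` -/
theorem mul_pow_comm {x y : (R K V)ˣ} {c : K} (h : (y : R K V) * x = c • ((x : R K V) * y)) (k : ℕ) :
    ((x : R K V) * y) ^ k = c ^ (∑ i ∈ Finset.range k, i) • ((x : R K V) ^ k * (y : R K V) ^ k) := by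
  induction k with
  | zero => simp
  | succ k ih =>
    have h1 := comm_pow h k
    calc ((x : R K V) * y) ^ (k + 1) = ((x : R K V) * y) ^ k * (x * y) := pow_succ _ _
      _ = c ^ (∑ i ∈ Finset.range k, i) • ((x : R K V) ^ k * ((y : R K V) ^ k * x) * y) := by
          rw [ih, smul_mul_assoc]
          simp only [mul_assoc]
      _ = c ^ (∑ i ∈ Finset.range (k + 1), i) • ((x : R K V) ^ (k + 1) * (y : R K V) ^ (k + 1)) := by
          rw [h1, mul_smul_comm, smul_mul_assoc, smul_smul, ← pow_add, Finset.sum_range_succ, pow_succ (x : R K V),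
            pow_succ' (y : R K V)]
          simp only [mul_assoc]
          congr 3
          exact (pow_succ _ _).symm.trans (pow_succ' _ _)

section

variable {S A : Subgroup (Equiv.Perm (R K V))} {r a : ℕ}

theorem scalar_pow (hpow : ∀ f ∈ A, f ^ r = 1) {x : (R K V)ˣ} (hx : cj K V x ∈ A) :
    ∃ s : K, (x : R K V) ^ r = s • (1 : R K V) := by
  have h1 : cj K V (x ^ r) = 1 := by rw [map_pow, hpow _ hx]
  obtain ⟨s, hs⟩ := cj_eq_one h1
  exact ⟨s, by rw [← Units.val_pow_eq_pow_val]; exact hs⟩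

variable [Nontrivial V]

theorem comm_root (hpow : ∀ f ∈ A, f ^ r = 1) {x y : (R K V)ˣ} (hx : cj K V x ∈ A)
    {c : K} (h : (x : R K V) * y = c • ((y : R K V) * x)) : c ^ r = 1 := by
  obtain ⟨s, hs⟩ := scalar_pow hpow hx
  have h1 := comm_pow h r
  rw [hs, smul_mul_assoc, one_mul, mul_smul_comm, mul_one, smul_smul] at h1
  have h2 : s ≠ 0 := by
    rintro rfl
    rw [zero_smul, ← Units.val_pow_eq_pow_val] at hs
    exact (x ^ r).ne_zero hs
  have h3 : (s - c ^ r * s) • (y : R K V) = 0 := by rw [sub_smul, ← h1, sub_self]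
  have h4 := sub_eq_zero.1 ((smul_eq_zero.1 h3).resolve_right y.ne_zero)
  exact (mul_right_cancel₀ h2 (by rw [one_mul]; exact h4 : (1 : K) * s = c ^ r * s)).symm

theorem mul_pow_r (hr : r.Prime) (hodd : r ≠ 2) (hpow : ∀ f ∈ A, f ^ r = 1) (hcomm : ∀ f ∈ A, ∀ g ∈ A, f * g = g * f)
    {x y : (R K V)ˣ} (hx : cj K V x ∈ A) (hy : cj K V y ∈ A) : (x * y) ^ r = x ^ r * y ^ r := by
  obtain ⟨c, hc⟩ := exists_comm (hcomm _ hy _ hx)
  have hcr := comm_root hpow hy hc
  have h1 := mul_pow_comm hc r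
  have h3 := Finset.sum_range_id_mul_two r
  obtain ⟨m, hm⟩ := hr.even_sub_one hodd
  have h4 : ∑ i ∈ Finset.range r, i = r * m := by
    rw [hm] at h3
    have : (∑ i ∈ Finset.range r, i) * 2 = (r * m) * 2 := by rw [h3]; ring
    omega
  rw [h4, pow_mul, hcr, one_pow, one_smul] at h1
  apply Units.ext
  rw [Units.val_pow_eq_pow_val, Units.val_mul, Units.val_mul, Units.val_pow_eq_pow_val, Units.val_pow_eq_pow_val]
  exact h1

/-- the elements with a lift of `r`-th power `1` -/
def BB (A : Subgroup (Equiv.Perm (R K V))) {r : ℕ} (hr : r.Prime) (hodd : r ≠ 2) (hpow : ∀ f ∈ A, f ^ r = 1)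
    (hcomm : ∀ f ∈ A, ∀ g ∈ A, f * g = g * f) : Subgroup (Equiv.Perm (R K V)) where
  carrier := {f | f ∈ A ∧ ∃ x : (R K V)ˣ, cj K V x = f ∧ x ^ r = 1}
  one_mem' := ⟨A.one_mem, 1, map_one _, one_pow _⟩
  mul_mem' := by
    rintro f g ⟨hf, x, rfl, hx⟩ ⟨hg, y, rfl, hy⟩
    exact ⟨A.mul_mem hf hg, x * y, map_mul _ _ _, by rw [mul_pow_r hr hodd hpow hcomm hf hg, hx, hy, one_mul]⟩
  inv_mem' := by
    rintro f ⟨hf, x, rfl, hx⟩
    exact ⟨A.inv_mem hf, x⁻¹, map_inv _ _, by rw [inv_pow, hx, inv_one]⟩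

/-- the Heisenberg pair -/
theorem exists_heis [Finite K] [Module.Finite K V] (hS : S ≤ RA K V) (h : C6Data S A r a)
    (hn : (finrank K V).Prime) (hn2 : finrank K V ≠ 2) :
    ∃ (ω : K) (P Z : (R K V)ˣ), cj K V P ∈ A ∧ cj K V Z ∈ A ∧ Heis r ω P Z := by
  obtain ⟨hr, ha, hfr, hAS, hAI, -, hpow, hcomm, hspan, hnorm, hmin⟩ := h
  have ha1 : a = 1 := (hfr ▸ hn : (r ^ a).Prime).eq_one_of_pow
  rw [ha1, pow_one] at hfr
  have hodd : r ≠ 2 := hfr ▸ hn2
  -- a non-commuting pair
  have hnc : ∃ x y : (R K V)ˣ, cj K V x ∈ A ∧ cj K V y ∈ A ∧ (x : R K V) * y ≠ (y : R K V) * x := by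
    by_contra hcon
    push Not at hcon
    have h1 : ∀ x : (R K V)ˣ, cj K V x ∈ A → ∀ Y : R K V, (x : R K V) * Y = Y * x := by
      intro x hx Y
      have hY : Y ∈ Submodule.span K {X : R K V | ∃ x : (R K V)ˣ, (x : R K V) = X ∧ cj K V x ∈ A} := by
        rw [hspan]; exact Submodule.mem_top
      induction hY using Submodule.span_induction with
      | mem X hX =>
        obtain ⟨y, rfl, hy⟩ := hX
        exact hcon x y hx hy
      | zero => rw [mul_zero, zero_mul]
      | add X Y _ _ hX hY => rw [mul_add, add_mul, hX, hY]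
      | smul c X _ hX => rw [mul_smul_comm, smul_mul_assoc, hX]
    have h2 : ∀ X : R K V, ∃ c : K, c • (1 : R K V) = X := by
      intro X
      have hX : X ∈ Submodule.span K {X : R K V | ∃ x : (R K V)ˣ, (x : R K V) = X ∧ cj K V x ∈ A} := by
        rw [hspan]; exact Submodule.mem_top
      induction hX using Submodule.span_induction with
      | mem X hX =>
        obtain ⟨x, rfl, hx⟩ := hX
        obtain ⟨c, hc⟩ := exists_scalar_of_central _ (h1 x hx)
        exact ⟨c, hc.symm⟩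
      | zero => exact ⟨0, zero_smul _ _⟩
      | add X Y _ _ hX hY =>
        obtain ⟨c, rfl⟩ := hX
        obtain ⟨d, rfl⟩ := hY
        exact ⟨c + d, add_smul _ _ _⟩
      | smul c X _ hX =>
        obtain ⟨d, rfl⟩ := hX
        exact ⟨c * d, mul_smul _ _ _⟩
    have h3 : finrank K (R K V) ≤ 1 := finrank_le_one (1 : R K V) h2
    have h4 : finrank K (R K V) = finrank K V * finrank K V := Module.finrank_linearMap K K V V
    have h5 := hn.two_le
    nlinarith
  obtain ⟨x, y, hx, hy, hxy⟩ := hnc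
  obtain ⟨c, hc⟩ := exists_comm (hcomm _ hx _ hy)
  have hcr := comm_root hpow hx hc
  have hc1 : c ≠ 1 := by
    rintro rfl
    rw [one_smul] at hc
    exact hxy hc
  have hcp : IsPrimitiveRoot c r := by
    have : Fact r.Prime := ⟨hr⟩
    rw [← orderOf_eq_prime hcr hc1]
    exact IsPrimitiveRoot.orderOf c
  -- `B = A`
  have hB : BB A hr hodd hpow hcomm = A := by
    rcases hmin (BB A hr hodd hpow hcomm) (fun f hf => hf.1) (by
      rintro g hg _ ⟨hf, z, rfl, hz⟩
      refine ⟨hnorm g hg _ hf, ?_⟩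
      have hgr := hS hg
      have h1 : (fU g hgr z) ^ r = 1 := by
        apply Units.ext
        rw [Units.val_pow_eq_pow_val, fU_val, ← ra_pow hgr, ← Units.val_pow_eq_pow_val, hz, Units.val_one,
          ra_one hgr]
      rcases hgr.2 with hm | hm
      · exact ⟨fU g hgr z, (conj_cj_rp hgr hm z).symm, h1⟩
      · exact ⟨(fU g hgr z)⁻¹, by rw [map_inv, conj_cj_anti hgr hm z], by rw [inv_pow, h1, inv_one]⟩) with h0 | h0
    · exfalso
      have hbot : ∀ z : (R K V)ˣ, cj K V z ∈ A → z ^ r = 1 → cj K V z = 1 := by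
        intro z hz1 hz2
        have h1 : cj K V z ∈ BB A hr hodd hpow hcomm := ⟨hz1, z, rfl, hz2⟩
        rw [h0] at h1
        exact Subgroup.mem_bot.1 h1
      obtain ⟨s, hs⟩ := scalar_pow hpow hx
      obtain ⟨t, ht⟩ := scalar_pow hpow hy
      have hs0 : s ≠ 0 := by
        rintro rfl
        rw [zero_smul, ← Units.val_pow_eq_pow_val] at hs
        exact (x ^ r).ne_zero hs
      have ht0 : t ≠ 0 := by
        rintro rfl
        rw [zero_smul, ← Units.val_pow_eq_pow_val] at ht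
        exact (y ^ r).ne_zero ht
      obtain ⟨γ, hγ⟩ := IsCyclic.exists_generator (α := Kˣ)
      obtain ⟨m, hm⟩ := (mem_powers_iff_mem_zpowers.2 (hγ (Units.mk0 s hs0)) : Units.mk0 s hs0 ∈ Submonoid.powers γ)
      obtain ⟨n, hn'⟩ := (mem_powers_iff_mem_zpowers.2 (hγ (Units.mk0 t ht0)) : Units.mk0 t ht0 ∈ Submonoid.powers γ)
      change γ ^ m = _ at hm
      change γ ^ n = _ at hn'
      have hm' : (γ : K) ^ m = s := by rw [← Units.val_pow_eq_pow_val, hm, Units.val_mk0]
      have hn'' : (γ : K) ^ n = t := by rw [← Units.val_pow_eq_pow_val, hn', Units.val_mk0]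
      -- the element `z = x^n y^{-m}`
      have hxn : cj K V (x ^ n) ∈ A := by rw [map_pow]; exact A.pow_mem hx n
      have hym : cj K V ((y ^ m)⁻¹) ∈ A := by rw [map_inv, map_pow]; exact A.inv_mem (A.pow_mem hy m)
      have hz1 : cj K V (x ^ n * (y ^ m)⁻¹) ∈ A := by rw [map_mul]; exact A.mul_mem hxn hym
      have hz2 : (x ^ n * (y ^ m)⁻¹) ^ r = 1 := by
        rw [mul_pow_r hr hodd hpow hcomm hxn hym, inv_pow, mul_inv_eq_one]
        apply Units.ext
        rw [← pow_mul, ← pow_mul, mul_comm n, mul_comm m, pow_mul, pow_mul, Units.val_pow_eq_pow_val,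
          Units.val_pow_eq_pow_val, Units.val_pow_eq_pow_val, Units.val_pow_eq_pow_val, hs, ht, smul_pow, smul_pow,
          one_pow, one_pow, ← hm', ← hn'', ← pow_mul, ← pow_mul, mul_comm]
      obtain ⟨κ, hκ⟩ := cj_eq_one (hbot _ hz1 hz2)
      have hκ' : (x : R K V) ^ n = κ • (y : R K V) ^ m := by
        have h1 : ((x ^ n : (R K V)ˣ) : R K V) = ((x ^ n * (y ^ m)⁻¹ : (R K V)ˣ) : R K V) * ((y ^ m : (R K V)ˣ) : R K V) := by
          rw [← Units.val_mul, inv_mul_cancel_right]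
        rw [hκ, smul_mul_assoc, one_mul, Units.val_pow_eq_pow_val, Units.val_pow_eq_pow_val] at h1
        exact h1
      have hκ0 : κ ≠ 0 := by
        rintro rfl
        rw [zero_smul, ← Units.val_pow_eq_pow_val] at hκ'
        exact (x ^ n).ne_zero hκ'
      -- `c^m = 1`
      have hcm : c ^ m = 1 := by
        have h1 := pow_comm hc m
        have h2 : (x : R K V) * (κ • (y : R K V) ^ m) = (κ • (y : R K V) ^ m) * x := by
          rw [← hκ', ← pow_succ, ← pow_succ']
        rw [mul_smul_comm, smul_mul_assoc] at h2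
        have h3 := smul_right_injective (R K V) hκ0 h2
        change (x : R K V) * (y : R K V) ^ m = (y : R K V) ^ m * x at h3
        rw [h3] at h1
        have h4 : (1 - c ^ m) • ((y ^ m * x : (R K V)ˣ) : R K V) = 0 := by
          rw [sub_smul, one_smul, Units.val_mul, Units.val_pow_eq_pow_val, ← h1, sub_self]
        exact (sub_eq_zero.1 ((smul_eq_zero.1 h4).resolve_right (Units.ne_zero _))).symm
      obtain ⟨m', hm''⟩ := hcp.dvd_of_pow_eq_one m hcm
      -- rescale `x`
      have hγ0 : ((γ : K) ^ m')⁻¹ ≠ 0 := inv_ne_zero (pow_ne_zero _ γ.ne_zero)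
      let w : (R K V)ˣ := Units.mk0 ((γ : K) ^ m')⁻¹ hγ0 • x
      have hw : (w : R K V) = ((γ : K) ^ m')⁻¹ • (x : R K V) := rfl
      have hwx : cj K V w = cj K V x := by
        apply Equiv.ext
        intro X
        have h1 : (w : R K V) * X * ((w⁻¹ : (R K V)ˣ) : R K V) = (x : R K V) * X * ((x⁻¹ : (R K V)ˣ) : R K V) := by
          have h2 : (w : R K V) * X = (((x : R K V) * X * ((x⁻¹ : (R K V)ˣ) : R K V)) * w) := by
            rw [hw, smul_mul_assoc, mul_smul_comm, mul_assoc _ _ (x : R K V), Units.inv_mul, mul_one]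
          rw [h2, mul_assoc, Units.mul_inv, mul_one]
        exact h1
      have hwr : w ^ r = 1 := by
        apply Units.ext
        rw [Units.val_pow_eq_pow_val, hw, smul_pow, hs, smul_smul, ← hm', hm'', inv_pow, ← pow_mul, mul_comm m' r,
          inv_mul_cancel₀ (pow_ne_zero _ γ.ne_zero), one_smul, Units.val_one]
      have h1 := hbot w (by rw [hwx]; exact hx) hwr
      rw [hwx] at h1
      obtain ⟨d, hd⟩ := cj_eq_one h1
      apply hxy
      rw [hd, smul_mul_assoc, one_mul, mul_smul_comm, mul_one]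
    · exact h0
  obtain ⟨Z, hZ, hZr⟩ : ∃ z : (R K V)ˣ, cj K V z = cj K V x ∧ z ^ r = 1 := by
    have h1 : cj K V x ∈ BB A hr hodd hpow hcomm := by rw [hB]; exact hx
    exact h1.2
  obtain ⟨P, hP, hPr⟩ : ∃ z : (R K V)ˣ, cj K V z = cj K V y ∧ z ^ r = 1 := by
    have h1 : cj K V y ∈ BB A hr hodd hpow hcomm := by rw [hB]; exact hy
    exact h1.2
  refine ⟨c, P, Z, by rw [hP]; exact hy, by rw [hZ]; exact hx, hr, hodd, hcp, hfr, hPr, hZr, ?_⟩
  obtain ⟨d, hd⟩ := cj_eq_cj hZ
  obtain ⟨e, he⟩ := cj_eq_cj hP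
  rw [hd, he, smul_mul_assoc, mul_smul_comm, hc, smul_mul_assoc, mul_smul_comm, smul_smul, smul_smul, smul_smul,
    smul_smul]
  congr 1
  ring

end

/-! ### the theorem -/

theorem five_of_heis [Finite K] [Module.Finite K V] {S A : Subgroup (Equiv.Perm (R K V))} (hS : S ≤ RA K V)
    (hAS : A ≤ S) (hcomm : ∀ f ∈ A, ∀ g ∈ A, f * g = g * f)
    (hspan : Submodule.span K {X : R K V | ∃ x : (R K V)ˣ, (x : R K V) = X ∧ cj K V x ∈ A} = ⊤)
    (hAI : A ≤ IN K V) (hnorm : ∀ g ∈ S, ∀ f ∈ A, g * f * g⁻¹ ∈ A)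
    {r : ℕ} {ω : K} {P Z : (R K V)ˣ} (hPA : cj K V P ∈ A) (hZA : cj K V Z ∈ A) (h : Heis r ω P Z) : Five S := by
  obtain ⟨b, hbZ, hbP⟩ := h.exists_basis
  obtain ⟨δ, hδ⟩ := exists_gen K h.hr h.prim
  have hnt : Nontrivial V := by
    apply Module.nontrivial_of_finrank_pos (R := K)
    rw [h.rank]; exact h.hr.pos
  set x : (R K V)ˣ := uN _ (h.EE (b := b) δ) with hx
  -- every element of `A` is `P^i Z^j`
  have hlift : ∀ f ∈ A, ∃ i j : ℕ, f = cj K V (P ^ i * Z ^ j) := by
    intro f hf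
    obtain ⟨Y, rfl⟩ := hAI hf
    obtain ⟨c₁, h1⟩ := exists_comm (hcomm _ hf _ hZA)
    obtain ⟨c₂, h2⟩ := exists_comm (hcomm _ hf _ hPA)
    exact h.lift h1 h2
  -- (1)
  have one : ∀ f ∈ S, f * cj K V P * f⁻¹ = cj K V P → f * cj K V Z * f⁻¹ = cj K V Z →
      cj K V x * f * (cj K V x)⁻¹ ∈ S → f = 1 := by
    intro f hf fP fZ hxf
    have hg : cj K V x * f * (cj K V x)⁻¹ * f⁻¹ ∈ S := S.mul_mem hxf (S.inv_mem hf)
    obtain ⟨i, j, hij⟩ := hlift _ (hnorm _ hg _ hZA)
    obtain ⟨gP, gZ, glin, gm⟩ := h.star hbZ hbP hδ (hS hf) fP fZ rfl hij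
    apply Equiv.ext
    intro X
    rw [Equiv.Perm.one_apply]
    have hX : X ∈ Submodule.span K {X : R K V | ∃ x : (R K V)ˣ, (x : R K V) = X ∧ cj K V x ∈ A} := by
      rw [hspan]; exact Submodule.mem_top
    induction hX using Submodule.span_induction with
    | mem X hX =>
      obtain ⟨y, rfl, hy⟩ := hX
      obtain ⟨i', j', h1⟩ := hlift _ hy
      obtain ⟨c, hc⟩ := cj_eq_cj h1
      rw [hc, glin, Units.val_mul, Units.val_pow_eq_pow_val, Units.val_pow_eq_pow_val, gm, ra_pow (hS hf),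
        ra_pow (hS hf), gP, gZ]
    | zero => exact ra_zero (hS hf)
    | add X Y _ _ hX hY => rw [ra_add (hS hf), hX, hY]
    | smul c X _ hX => rw [glin, hX]
  -- (2)
  have two : ∀ f ∈ S, cj K V x * f * (cj K V x)⁻¹ ∈ S → ∀ Y : (R K V)ˣ, cj K V Y ∈ A →
      cj K V (x * Y) * f * (cj K V (x * Y))⁻¹ ∈ S → f * cj K V Y * f⁻¹ = cj K V Y := by
    intro f hf hxf Y hY hxY
    have h1 : cj K V Y * (f * (cj K V Y)⁻¹ * f⁻¹) ∈ A := A.mul_mem hY (hnorm f hf _ (A.inv_mem hY))
    have h2 : cj K V x * (cj K V Y * (f * (cj K V Y)⁻¹ * f⁻¹)) * (cj K V x)⁻¹ ∈ S := by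
      have h3 := S.mul_mem hxY (S.inv_mem hxf)
      have h4 : cj K V (x * Y) * f * (cj K V (x * Y))⁻¹ * (cj K V x * f * (cj K V x)⁻¹)⁻¹ =
          cj K V x * (cj K V Y * (f * (cj K V Y)⁻¹ * f⁻¹)) * (cj K V x)⁻¹ := by
        rw [map_mul]
        group
      rwa [h4] at h3
    have h5 : ∀ W ∈ A, (cj K V Y * (f * (cj K V Y)⁻¹ * f⁻¹)) * W * (cj K V Y * (f * (cj K V Y)⁻¹ * f⁻¹))⁻¹ = W := by
      intro W hW
      rw [hcomm _ h1 _ hW, mul_inv_cancel_right]
    have h6 := one _ (hAS h1) (h5 _ hPA) (h5 _ hZA) h2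
    have h7 : f * (cj K V Y)⁻¹ * f⁻¹ = (cj K V Y)⁻¹ := (inv_eq_of_mul_eq_one_right h6).symm
    have h8 : (f * (cj K V Y)⁻¹ * f⁻¹)⁻¹ = f * cj K V Y * f⁻¹ := by group
    rw [← h8, h7, inv_inv]
  refine ⟨![x, x * P, x * Z, x], ?_, ?_⟩
  · have hdx : LinearMap.det (x : R K V) = 1 := det_uN _ _
    have hdP : LinearMap.det ((x * P : (R K V)ˣ) : R K V) = 1 := by
      rw [Units.val_mul, map_mul, hdx, h.det_P, one_mul]
    have hdZ : LinearMap.det ((x * Z : (R K V)ˣ) : R K V) = 1 := by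
      rw [Units.val_mul, map_mul, hdx, h.det_Z, one_mul]
    intro i
    fin_cases i
    · exact hdx
    · exact hdP
    · exact hdZ
    · exact hdx
  · intro f hf hi
    have h0 : cj K V x * f * (cj K V x)⁻¹ ∈ S := hi 0
    have h1 : cj K V (x * P) * f * (cj K V (x * P))⁻¹ ∈ S := hi 1
    have h2 : cj K V (x * Z) * f * (cj K V (x * Z))⁻¹ ∈ S := hi 2
    exact one f hf (two f hf h0 P hPA h1) (two f hf h0 Z hZA h2) h0

/-- **extraspecial normalizers in odd prime degree** -/
theorem stmtC6_prime : StmtC6On.{u, v} (fun n => n.Prime ∧ n ≠ 2) := by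
  intro K _ _ V _ _ _ S hS _ _ A r a h hn
  have hnt : Nontrivial V := by
    apply Module.nontrivial_of_finrank_pos (R := K)
    exact hn.1.pos
  obtain ⟨ω, P, Z, hP, hZ, hH⟩ := exists_heis hS h hn.1 hn.2
  obtain ⟨hr, ha, hfr, hAS, hAI, -, hpow, hcomm, hspan, hnorm, hmin⟩ := h
  exact five_of_heis hS hAS hcomm hspan hAI hnorm hP hZ hH

/-- task 5368 -/
theorem stmtC6_three : StmtC6On.{u, v} (fun n => n = 3) := by
  intro K _ _ V _ _ _ S hS h2 hs A r a h hn
  exact stmtC6_prime K V S hS h2 hs A r a h ⟨by rw [hn]; norm_num, by omega⟩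

theorem stmtC6_five : StmtC6On.{u, v} (fun n => n = 5) := by
  intro K _ _ V _ _ _ S hS h2 hs A r a h hn
  exact stmtC6_prime K V S hS h2 hs A r a h ⟨by rw [hn]; norm_num, by omega⟩

theorem stmtC6_seven : StmtC6On.{u, v} (fun n => n = 7) := by
  intro K _ _ V _ _ _ S hS h2 hs A r a h hn
  exact stmtC6_prime K V S hS h2 hs A r a h ⟨by rw [hn]; norm_num, by omega⟩

end Cfsg.Agent.H710.FC
end
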